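import Cfsg.Agent.Lib.PSLFacts.Traces
import Cfsg.Agent.Lib.PSLTwo.ClassSize
import Cfsg.Agent.Lib.PSLTwo.ClassSizeValues

/-!
Elements of order four of `SL(2, F)` and involutions of `PSL(2, F)`, `|F|` odd.
-/

set_option autoImplicit false

namespace Cfsg.Agent.Lib.PSLFacts.Invol

open Cfsg.Agent.Lib Cfsg.Agent.Lib.PSLTwo.Sylow Cfsg.Agent.Lib.PSLTwo.ClassSize
open Cfsg.Agent.Lib.SL2Tori Cfsg.Agent.Lib.SL2Tori.Products

variable {F : Type*} [Field F] [Fintype F]

local notation "SL" => Matrix.SpecialLinearGroup (Fin 2) F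
local notation "PSL2" => Matrix.ProjectiveSpecialLinearGroup (Fin 2) F

theorem mul_self_of_trace_zero {g : SL} (ht : slTr g = 0) : g * g = negOne := by
  have hd := det_eq g
  unfold slTr at ht
  apply slExt <;> rw [mul_apply'] <;>
    simp only [negOne, Matrix.of_apply, Matrix.cons_val', Matrix.cons_val_zero, Matrix.cons_val_one,
      Matrix.cons_val_fin_one, Matrix.empty_val']
  · linear_combination g.1 0 0 * ht - hd
  · linear_combination g.1 0 1 * ht
  · linear_combination g.1 1 0 * ht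
  · linear_combination g.1 1 1 * ht - hd

theorem nonScalar_of_trace_zero (h2 : (2 : F) ≠ 0) {g : SL} (ht : slTr g = 0) : NonScalar g := by
  rw [nonScalar_iff h2]
  refine ⟨fun h => h2 ?_, fun h => h2 ?_⟩ <;> rw [h] at ht
  · simp [slTr, one_apply'] at ht
    linear_combination ht
  · simp [slTr, negOne] at ht
    linear_combination (-1) * ht

theorem sq_ne_four (h2 : (2 : F) ≠ 0) {g : SL} (ht : slTr g = 0) : slTr g ^ 2 ≠ 4 := by
  rw [ht]
  intro h
  exact h2 (mul_self_eq_zero.mp (by linear_combination -h))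

theorem orderOf_of_trace_zero (h2 : (2 : F) ≠ 0) {g : SL} (ht : slTr g = 0) : orderOf g = 4 := by
  refine orderOf_eq_prime_pow (p := 2) (n := 1) ?_ ?_
  · rw [pow_one, pow_two, mul_self_of_trace_zero ht]
    exact negOne_ne_one h2
  · rw [show 2 ^ (1 + 1) = 2 * 2 from rfl, pow_mul, pow_two g, mul_self_of_trace_zero ht, pow_two,
      negOne_sq]

theorem proj_involution (h2 : (2 : F) ≠ 0) {g : SL} (ht : slTr g = 0) : orderOf (proj g) = 2 := by
  refine orderOf_eq_prime ?_ fun h => ?_
  · rw [pow_two, ← map_mul, mul_self_of_trace_zero ht, proj_eq_one_iff]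
    exact Or.inr rfl
  · rcases proj_eq_one_iff.mp h with rfl | rfl <;>
      exact ((nonScalar_iff h2).mp (nonScalar_of_trace_zero h2 ht)).elim (by simp)

theorem trace_zero_of_involution {y : PSL2} (hy : orderOf y = 2) :
    ∃ g : SL, proj g = y ∧ slTr g = 0 := by
  obtain ⟨g, rfl⟩ := mk_surjective y
  have h1 : (g : PSL2) ≠ 1 := fun h => by rw [h, orderOf_one] at hy; omega
  exact ⟨g, rfl, (slTr_eq_trace g).trans (trace_of_pow_two h1 (by have h := pow_orderOf_eq_one (g : PSL2); rwa [hy] at h))⟩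

theorem trace_zero_of_orderOf_four (h2 : (2 : F) ≠ 0) {g : SL} (hg : orderOf g = 4) :
    slTr g = 0 := by
  have hne : g * g ≠ 1 := fun h => by
    have := Nat.le_of_dvd two_pos (orderOf_dvd_of_pow_eq_one ((pow_two g).trans h))
    omega
  have h4 : (g * g) * (g * g) = 1 := by
    rw [← pow_two g, ← pow_two (g ^ 2), ← pow_mul, show 2 * 2 = 4 from rfl, ← hg]
    exact pow_orderOf_eq_one g
  have hg2 := (sq_eq_one h2 h4).resolve_left hne
  have h1 : (g : PSL2) ≠ 1 := fun h => by
    rcases proj_eq_one_iff.mp h with rfl | rfl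
    · exact hne (one_mul 1)
    · exact hne negOne_sq
  refine (slTr_eq_trace g).trans (trace_of_pow_two h1 ?_)
  rw [pow_two, ← QuotientGroup.mk_mul]
  exact proj_eq_one_iff.mpr (Or.inr hg2)

theorem card_pre (h2 : (2 : F) ≠ 0) {g : SL} (ht : slTr g = 0) :
    (Fintype.card F % 4 = 1 → Nat.card (pre g) = 2 * (Fintype.card F - 1)) ∧
      (Fintype.card F % 4 = 3 → Nat.card (pre g) = 2 * (Fintype.card F + 1)) := by
  refine ⟨fun h => ?_, fun h => ?_⟩
  · rw [card_pre_zero h2 ht, PSLTwo.ClassSizeValues.torus_zero_one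
      (by omega) h (nonScalar_of_trace_zero h2 ht) ht]
  · rw [card_pre_zero h2 ht, PSLTwo.ClassSizeValues.torus_zero_three h
      (nonScalar_of_trace_zero h2 ht) ht]

end Cfsg.Agent.Lib.PSLFacts.Invol
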