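import Mathlib

/-!
Counting four-groups through ordered pairs of commuting involutions.
-/

set_option autoImplicit false

namespace Cfsg.Agent.Lib.PSLFacts.FourCount

variable {G : Type*} [Group G]

/-- The values of a map constant exactly on the left cosets of `S`. -/
theorem card_range_mul {α : Type*} [Finite G] (f : G → α) (S : Subgroup G)
    (h : ∀ a b, f a = f b ↔ a⁻¹ * b ∈ S) : Nat.card (Set.range f) * Nat.card S = Nat.card G := by
  let e : G ⧸ S → Set.range f := Quotient.lift (fun g => ⟨f g, g, rfl⟩) fun a b hab =>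
    Subtype.ext ((h a b).mpr (QuotientGroup.leftRel_apply.mp hab))
  have he : Function.Bijective e := by
    constructor
    · intro a b
      induction a using QuotientGroup.induction_on with | _ a => ?_
      induction b using QuotientGroup.induction_on with | _ b => ?_
      intro hab
      exact QuotientGroup.eq.mpr ((h a b).mp (congrArg Subtype.val hab))
    · rintro ⟨_, g, rfl⟩
      exact ⟨(g : G ⧸ S), rfl⟩
  rw [← Nat.card_congr (Equiv.ofBijective e he), mul_comm]
  exact S.card_mul_index

/-- Ordered pairs of distinct commuting involutions. -/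
def IsPair (u v : G) : Prop := orderOf u = 2 ∧ orderOf v = 2 ∧ u ≠ v ∧ Commute u v

theorem mul_self_of_order {u : G} (h : orderOf u = 2) : u * u = 1 := by
  rw [← pow_two, ← h]; exact pow_orderOf_eq_one u

theorem ne_one_of_order {u : G} (h : orderOf u = 2) : u ≠ 1 := fun e => by
  rw [e, orderOf_one] at h; omega

/-- The four-group on a pair. -/
def four (u v : G) (h : IsPair u v) : Subgroup G where
  carrier := {1, u, v, u * v}
  one_mem' := by simp
  mul_mem' := by
    have hu := mul_self_of_order h.1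
    have hv := mul_self_of_order h.2.1
    have hc := h.2.2.2.eq
    intro a b ha hb
    simp only [Set.mem_insert_iff, Set.mem_singleton_iff] at ha hb ⊢
    have hu' : ∀ w : G, u * (u * w) = w := fun w => by rw [← mul_assoc, hu, one_mul]
    have hc' : ∀ w : G, v * (u * w) = u * (v * w) := fun w => by rw [← mul_assoc, ← hc, mul_assoc]
    rcases ha with rfl | rfl | rfl | rfl <;> rcases hb with rfl | rfl | rfl | rfl <;>
      simp [mul_assoc, hu, hv, ← hc, hu', hc']
  inv_mem' := by
    have hu := inv_eq_of_mul_eq_one_right (mul_self_of_order h.1)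
    have hv := inv_eq_of_mul_eq_one_right (mul_self_of_order h.2.1)
    intro a ha
    simp only [Set.mem_insert_iff, Set.mem_singleton_iff] at ha ⊢
    rcases ha with rfl | rfl | rfl | rfl <;> simp [hu, hv, h.2.2.2.eq]

theorem mem_four {u v : G} {h : IsPair u v} {w : G} :
    w ∈ four u v h ↔ w = 1 ∨ w = u ∨ w = v ∨ w = u * v := Iff.rfl

theorem card_four (u v : G) (h : IsPair u v) : Nat.card (four u v h) = 4 := by
  have hu1 := ne_one_of_order h.1
  have hv1 := ne_one_of_order h.2.1
  have huv : u * v ≠ 1 := fun e => h.2.2.1 (by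
    rw [← inv_eq_of_mul_eq_one_right e, inv_eq_of_mul_eq_one_right (mul_self_of_order h.1)])
  have huu : u * v ≠ u := fun e => hv1 (mul_eq_left.mp e)
  have hvv : u * v ≠ v := fun e => hu1 (mul_eq_right.mp e)
  rw [← SetLike.coe_sort_coe, Nat.card_coe_set_eq]
  show Set.ncard ({1, u, v, u * v} : Set G) = 4
  classical
  rw [Set.ncard_insert_of_notMem, Set.ncard_insert_of_notMem, Set.ncard_insert_of_notMem,
    Set.ncard_singleton] <;> simp [hu1.symm, hv1.symm, huv.symm, huu.symm, hvv.symm, h.2.2.1]

theorem exponent_four (u v : G) (h : IsPair u v) (w : four u v h) : w * w = 1 := by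
  have hu := mul_self_of_order h.1
  have hv := mul_self_of_order h.2.1
  apply Subtype.ext
  show (w : G) * w = 1
  rcases mem_four.mp w.2 with e | e | e | e <;> rw [e]
  · exact one_mul 1
  · exact hu
  · exact hv
  · rw [← pow_two, h.2.2.2.mul_pow, pow_two, pow_two, hu, hv, one_mul]

theorem isKleinFour_of {V : Subgroup G} (hc : Nat.card V = 4) (he : ∀ w : V, w * w = 1) :
    IsKleinFour V where
  card_four := hc
  exponent_two := (Nat.prime_two.eq_one_or_self_of_dvd _
    (Monoid.exponent_dvd_of_forall_pow_eq_one fun x => by rw [pow_two, he])).resolve_left fun h => by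
      haveI := Monoid.exp_eq_one_iff.mp h
      rw [Nat.card_of_subsingleton (1 : V)] at hc
      omega

theorem isKleinFour_four (u v : G) (h : IsPair u v) : IsKleinFour (four u v h) :=
  isKleinFour_of (card_four u v h) (exponent_four u v h)

theorem mul_self_klein {V : Subgroup G} (hV : IsKleinFour V) {u : G} (hu : u ∈ V) : u * u = 1 := by
  haveI := hV
  exact congrArg Subtype.val (IsKleinFour.mul_self (⟨u, hu⟩ : V))

/-- In a four-group two non-trivial elements form a pair. -/
theorem isPair_of_klein {V : Subgroup G} (hV : IsKleinFour V) {u v : G} (hu : u ∈ V) (hv : v ∈ V)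
    (hu1 : u ≠ 1) (hv1 : v ≠ 1) (hne : u ≠ v) : IsPair u v := by
  refine ⟨orderOf_eq_prime (by rw [pow_two]; exact mul_self_klein hV hu) hu1,
    orderOf_eq_prime (by rw [pow_two]; exact mul_self_klein hV hv) hv1, hne, ?_⟩
  have hi : ∀ w ∈ V, w⁻¹ = w := fun w hw => inv_eq_of_mul_eq_one_right (mul_self_klein hV hw)
  show u * v = v * u
  rw [← hi _ (mul_mem hu hv), _root_.mul_inv_rev, hi v hv, hi u hu]

theorem eq_four [Finite G] {V : Subgroup G} (hV : IsKleinFour V) {u v : G} (hu : u ∈ V) (hv : v ∈ V)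
    (h : IsPair u v) : four u v h = V := by
  haveI := hV
  refine Subgroup.eq_of_le_of_card_ge (fun w hw => ?_) ?_
  · rcases mem_four.mp hw with rfl | rfl | rfl | rfl
    exacts [one_mem _, hu, hv, mul_mem hu hv]
  · rw [card_four]; exact le_of_eq IsKleinFour.card_four

theorem exists_pair [Finite G] {V : Subgroup G} (hV : IsKleinFour V) :
    ∃ u v, ∃ h : IsPair u v, four u v h = V := by
  haveI := hV
  have hc : Nat.card V = 4 := IsKleinFour.card_four
  haveI : Nontrivial V := Finite.one_lt_card_iff_nontrivial.mp (by omega)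
  obtain ⟨u, hu⟩ := exists_ne (1 : V)
  obtain ⟨v, hv⟩ : ∃ v : V, v ≠ 1 ∧ v ≠ u := by
    by_contra hall
    push Not at hall
    have hs : (Set.univ : Set V) ⊆ {1, u} := fun x _ => by
      by_cases hx : x = 1
      · simp [hx]
      · simp [hall x hx]
    have h := Set.ncard_le_ncard hs (Set.toFinite _)
    rw [Set.ncard_univ, hc] at h
    have := h.trans (Set.ncard_insert_le _ _)
    rw [Set.ncard_singleton] at this
    omega
  have h : IsPair (u : G) (v : G) := isPair_of_klein hV u.2 v.2 (fun e => hu (Subtype.ext e))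
    (fun e => hv.1 (Subtype.ext e)) (fun e => hv.2 (Subtype.ext e.symm))
  exact ⟨u, v, h, eq_four hV u.2 v.2 h⟩

theorem card_pairs_self (V : Type*) [Group V] [IsKleinFour V] :
    Nat.card {p : V × V // p.1 ≠ 1 ∧ p.2 ≠ 1 ∧ p.1 ≠ p.2} = 6 := by
  obtain ⟨e⟩ := IsKleinFour.nonempty_mulEquiv (G₁ := V) (G₂ := DihedralGroup 2)
  rw [Nat.card_congr ((e.toEquiv.prodCongr e.toEquiv).subtypeEquiv
    (q := fun p : DihedralGroup 2 × DihedralGroup 2 => p.1 ≠ 1 ∧ p.2 ≠ 1 ∧ p.1 ≠ p.2)
    fun p => by simp), Nat.card_eq_fintype_card]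
  decide

theorem six_mul_card [Finite G] :
    6 * Nat.card {V : Subgroup G // IsKleinFour V} = Nat.card {p : G × G // IsPair p.1 p.2} := by
  let f : {p : G × G // IsPair p.1 p.2} → {V : Subgroup G // IsKleinFour V} := fun p =>
    ⟨four p.1.1 p.1.2 p.2, isKleinFour_four _ _ _⟩
  haveI : Fintype {V : Subgroup G // IsKleinFour V} := Fintype.ofFinite _
  rw [← Nat.card_congr (Equiv.sigmaFiberEquiv f), Nat.card_sigma]
  rw [Finset.sum_congr rfl fun V _ => (?_ : Nat.card {p // f p = V} = 6), Finset.sum_const,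
    Nat.card_eq_fintype_card, smul_eq_mul, mul_comm]
  · rw [Finset.card_univ]
  haveI := V.2
  rw [← card_pairs_self V.1]
  have hm : ∀ p : {p // f p = V}, p.1.1.1 ∈ V.1 ∧ p.1.1.2 ∈ V.1 := fun p => by
    obtain ⟨⟨⟨a, b⟩, hab⟩, hp⟩ := p
    subst hp
    exact ⟨(mem_four (h := hab)).mpr (Or.inr (Or.inl rfl)), (mem_four (h := hab)).mpr (Or.inr (Or.inr (Or.inl rfl)))⟩
  let e : {p // f p = V} ≃ {p : V.1 × V.1 // p.1 ≠ 1 ∧ p.2 ≠ 1 ∧ p.1 ≠ p.2} :=
    { toFun := fun p =>
        ⟨(⟨p.1.1.1, (hm p).1⟩, ⟨p.1.1.2, (hm p).2⟩),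
          fun e => ne_one_of_order p.1.2.1 (congrArg Subtype.val e),
          fun e => ne_one_of_order p.1.2.2.1 (congrArg Subtype.val e),
          fun e => p.1.2.2.2.1 (congrArg Subtype.val e)⟩
      invFun := fun p =>
        have h : IsPair (p.1.1 : G) (p.1.2 : G) := isPair_of_klein V.2 p.1.1.2 p.1.2.2
          (fun e => p.2.1 (Subtype.ext e)) (fun e => p.2.2.1 (Subtype.ext e))
          (fun e => p.2.2.2 (Subtype.ext e))
        ⟨⟨((p.1.1 : G), (p.1.2 : G)), h⟩, Subtype.ext (eq_four V.2 p.1.1.2 p.1.2.2 h)⟩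
      left_inv := fun p => rfl
      right_inv := fun p => rfl }
  exact Nat.card_congr e

theorem conj_four {u v : G} (h : IsPair u v) (g : G) :
    (four u v h).map (MulAut.conj g).toMonoidHom =
      four (g * u * g⁻¹) (g * v * g⁻¹)
        ⟨by rw [← MulAut.conj_apply, MulEquiv.orderOf_eq, h.1],
         by rw [← MulAut.conj_apply, MulEquiv.orderOf_eq, h.2.1],
         fun e => h.2.2.1 (mul_left_cancel (mul_right_cancel e)),
         h.2.2.2.map (MulAut.conj g).toMonoidHom⟩ := by
  ext w
  refine Iff.trans ?_ mem_four.symm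
  rw [Subgroup.mem_map]
  constructor
  · rintro ⟨a, ha, rfl⟩
    rcases mem_four.mp ha with rfl | rfl | rfl | rfl
    · exact Or.inl (map_one _)
    · exact Or.inr (Or.inl rfl)
    · exact Or.inr (Or.inr (Or.inl rfl))
    · exact Or.inr (Or.inr (Or.inr (map_mul (MulAut.conj g).toMonoidHom u v)))
  · rintro (rfl | rfl | rfl | rfl)
    · exact ⟨1, one_mem _, map_one _⟩
    · exact ⟨u, mem_four.mpr (Or.inr (Or.inl rfl)), rfl⟩
    · exact ⟨v, mem_four.mpr (Or.inr (Or.inr (Or.inl rfl))), rfl⟩
    · exact ⟨u * v, mem_four.mpr (Or.inr (Or.inr (Or.inr rfl))), map_mul (MulAut.conj g).toMonoidHom u v⟩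

theorem klein_map {V : Subgroup G} (hV : IsKleinFour V) (g : G) :
    IsKleinFour (V.map (MulAut.conj g).toMonoidHom) := by
  haveI := hV
  refine isKleinFour_of ?_ fun w => ?_
  · rw [Nat.card_congr (V.equivMapOfInjective _ (MulAut.conj g).injective).toEquiv.symm]
    exact IsKleinFour.card_four
  · obtain ⟨x, hx, hw⟩ := w.2
    apply Subtype.ext
    rw [Subgroup.coe_mul, ← hw, ← map_mul, mul_self_klein hV hx, map_one]
    rfl

/-- The conjugates of `V` are as many as the index of its normaliser. -/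
theorem card_orbit [Finite G] (V : Subgroup G) :
    Nat.card (Set.range fun g : G => V.map (MulAut.conj g).toMonoidHom) *
      Nat.card (Subgroup.normalizer (V : Set G)) = Nat.card G := by
  refine card_range_mul _ _ fun a b => ?_
  have key : ∀ g x, x ∈ V.map (MulAut.conj g).toMonoidHom ↔ g⁻¹ * x * g ∈ V := fun g x => by
    constructor
    · rintro ⟨y, hy, rfl⟩
      simpa [mul_assoc] using hy
    · intro h
      exact ⟨_, h, by simp [mul_assoc]⟩
  rw [Subgroup.mem_normalizer_iff]
  constructor
  · intro hab x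
    have h := SetLike.ext_iff.mp hab (b * x * b⁻¹)
    rw [key, key] at h
    simp only [mul_assoc, _root_.mul_inv_rev, inv_inv, inv_mul_cancel_left, inv_mul_cancel, mul_one] at h ⊢
    exact h.symm
  · intro hn
    ext x
    rw [key, key]
    have h := hn (b⁻¹ * x * b)
    simp only [mul_assoc, _root_.mul_inv_rev, inv_inv, mul_inv_cancel_left, mul_inv_cancel, mul_one] at h ⊢
    exact h.symm

end Cfsg.Agent.Lib.PSLFacts.FourCount
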