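import Cfsg.Agent.Lib.PSLFacts.Involutions
import Cfsg.Agent.Lib.PSLFacts.FourCount
import Cfsg.Agent.Lib.DicksonId.Basic
import Cfsg.Agent.Lib.DicksonId.Ident
import Cfsg.Agent.Lib.DicksonFull.Exist

/-!
Four-groups of `PSL(2, F)`, `|F|` odd.
-/

set_option autoImplicit false

namespace Cfsg.Agent.Lib.PSLFacts.FourGroups

open Cfsg.Agent.Lib Cfsg.Agent.Lib.PSLTwo.Sylow Cfsg.Agent.Lib.PSLTwo.ClassSize
open Cfsg.Agent.Lib.SL2Tori Cfsg.Agent.Lib.SL2Tori.Products Cfsg.Agent.Lib.PSLFacts.Invol
open Cfsg.Agent.Lib.PSLFacts.FourCount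

variable {F : Type*} [Field F] [Fintype F]

local notation "SL" => Matrix.SpecialLinearGroup (Fin 2) F
local notation "M2" => Matrix (Fin 2) (Fin 2) F
local notation "PSL2" => Matrix.ProjectiveSpecialLinearGroup (Fin 2) F

omit [Fintype F] in
theorem negOne_val : ((negOne : SL) : M2) = -1 := by
  ext i j
  fin_cases i <;> fin_cases j <;> simp

omit [Fintype F] in
/-- A traceless matrix commuting with a traceless element is a multiple of it. -/
theorem proportional {h : SL} (ht : slTr h = 0) {S : M2} (hS : Matrix.trace S = 0)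
    (hc : S * (h : M2) = (h : M2) * S) (h2 : (2 : F) ≠ 0) : ∃ c : F, S = c • (h : M2) := by
  have hd := det_eq h
  rw [Matrix.trace_fin_two] at hS
  unfold slTr at ht
  have e11 : h.1 1 1 = -h.1 0 0 := by linear_combination ht
  have s11 : S 1 1 = -S 0 0 := by linear_combination hS
  have c00 := congrFun (congrFun hc 0) 0
  have c01 := congrFun (congrFun hc 0) 1
  have c10 := congrFun (congrFun hc 1) 0
  simp only [Matrix.mul_apply, Fin.sum_univ_two, e11, s11] at c00 c01 c10
  have k1 : h.1 0 0 * S 0 1 = h.1 0 1 * S 0 0 := mul_left_cancel₀ h2 (by linear_combination -c01)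
  have k2 : h.1 0 0 * S 1 0 = h.1 1 0 * S 0 0 := mul_left_cancel₀ h2 (by linear_combination c10)
  by_cases ha : h.1 0 0 = 0
  · have hb : h.1 0 1 ≠ 0 := fun hb => one_ne_zero (α := F) (by rw [← hd, ha, hb]; ring)
    refine ⟨S 0 1 / h.1 0 1, ?_⟩
    rw [ha, zero_mul] at k1
    have hA : S 0 0 = 0 := (mul_eq_zero.mp k1.symm).resolve_left hb
    ext i j
    fin_cases i <;> fin_cases j <;> simp [Matrix.smul_apply, e11, s11, hA, ha, hb]
    field_simp
    linear_combination -c00
  · refine ⟨S 0 0 / h.1 0 0, ?_⟩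
    ext i j
    fin_cases i <;> fin_cases j <;> simp [Matrix.smul_apply, e11, s11, ha] <;> field_simp <;>
      first | linear_combination k1 | linear_combination k2

/-- A pair of anticommuting elements of trace zero. -/
def Anti {F : Type*} [Field F] (x y : Matrix.SpecialLinearGroup (Fin 2) F) : Prop := slTr x = 0 ∧ slTr y = 0 ∧ x * y = y * x * negOne

section Anti

theorem Anti.val {x y : SL} (h : Anti x y) :
    (x : M2) * x = -1 ∧ (y : M2) * y = -1 ∧ (y : M2) * x = -((x : M2) * y) := by
  refine ⟨?_, ?_, ?_⟩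
  · rw [← Matrix.SpecialLinearGroup.coe_mul, mul_self_of_trace_zero h.1, negOne_val]
  · rw [← Matrix.SpecialLinearGroup.coe_mul, mul_self_of_trace_zero h.2.1, negOne_val]
  · have := congrArg (fun g : SL => (g : M2)) h.2.2
    simp only [Matrix.SpecialLinearGroup.coe_mul, negOne_val, mul_neg, mul_one] at this
    rw [this, neg_neg]

theorem Anti.pair {x y : SL} (h2 : (2 : F) ≠ 0) (h : Anti x y) : IsPair (proj x) (proj y) := by
  refine ⟨proj_involution h2 h.1, proj_involution h2 h.2.1, fun e => ?_, ?_⟩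
  · have hne : x * x ≠ x * x * negOne := fun e' => negOne_ne_one h2 (mul_eq_left.mp e'.symm)
    rcases proj_eq_iff.mp e with rfl | rfl
    · exact hne h.2.2
    · refine hne ?_
      have := h.2.2
      rw [mul_assoc x negOne x, negOne_central, ← mul_assoc] at this
      exact mul_right_cancel this
  · show proj x * proj y = proj y * proj x
    rw [← map_mul, ← map_mul, proj_eq_iff]
    right
    rw [h.2.2, mul_assoc, negOne_sq, mul_one]

/-- Only scalars commute with both members. -/
theorem Anti.scalar {x y : SL} (h2 : (2 : F) ≠ 0) (h : Anti x y) {k : SL} (hx : k * x = x * k)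
    (hy : k * y = y * k) : k = 1 ∨ k = negOne := by
  obtain ⟨hxx, -, hyx⟩ := h.val
  set t : F := (k.1 0 0 + k.1 1 1) / 2 with htdef
  set S : M2 := (k : M2) - t • 1 with hSdef
  have hS : Matrix.trace S = 0 := by
    rw [Matrix.trace_fin_two]
    simp [hSdef, htdef]
    field_simp
    ring
  have hcx : S * x = (x : M2) * S := by
    rw [hSdef, sub_mul, mul_sub, ← Matrix.SpecialLinearGroup.coe_mul, hx,
      Matrix.SpecialLinearGroup.coe_mul, smul_mul_assoc, one_mul, mul_smul_comm, mul_one]
  have hcy : S * y = (y : M2) * S := by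
    rw [hSdef, sub_mul, mul_sub, ← Matrix.SpecialLinearGroup.coe_mul, hy,
      Matrix.SpecialLinearGroup.coe_mul, smul_mul_assoc, one_mul, mul_smul_comm, mul_one]
  obtain ⟨a, ha⟩ := proportional h.1 hS hcx h2
  have key : a • ((x : M2) * y) = 0 := by
    have := hcy
    rw [ha, smul_mul_assoc, mul_smul_comm, hyx, smul_neg, eq_neg_iff_add_eq_zero, ← two_smul F] at this
    rcases smul_eq_zero.mp this with h' | h'
    · exact absurd h' h2
    · exact h'
  rcases smul_eq_zero.mp key with h' | h'
  · rw [h', zero_smul, hSdef, sub_eq_zero] at ha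
    refine scalar_cases fun hns => ?_
    rcases hns with hb | hb | hb <;> simp [ha] at hb
  · exact absurd (congrArg Matrix.det h') (by simp [Matrix.det_mul])

theorem det_one_add {P : M2} {c : F} (ht : Matrix.trace P = 0) (h : P * P = c • 1) :
    Matrix.det (1 + P) = 1 - c := by
  rw [Matrix.trace_fin_two] at ht
  have h0 := congrFun (congrFun h 0) 0
  simp [Matrix.mul_apply, Fin.sum_univ_two] at h0
  rw [Matrix.det_fin_two]
  simp
  linear_combination (1 + P 0 0) * ht - h0

/-- The element of order three on a pair. -/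
theorem Anti.exists_rotation {x y : SL} (h2 : (2 : F) ≠ 0) (h : Anti x y) :
    ∃ z : SL, z * x = y * z ∧ z * y = x * y * z := by
  obtain ⟨hxx, hyy, hyx⟩ := h.val
  have hxx' : ∀ w : M2, (x : M2) * (x * w) = -w := fun w => by rw [← mul_assoc, hxx, neg_one_mul]
  have hyy' : ∀ w : M2, (y : M2) * (y * w) = -w := fun w => by rw [← mul_assoc, hyy, neg_one_mul]
  have hyx' : ∀ w : M2, (y : M2) * (x * w) = -((x : M2) * (y * w)) := fun w => by
    rw [← mul_assoc, hyx, neg_mul, mul_assoc]
  set P : M2 := (x : M2) + y + (x : M2) * y with hP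
  have htr : Matrix.trace P = 0 := by
    have hxy : Matrix.trace ((x : M2) * (y : M2)) = 0 := by
      have := Matrix.trace_mul_comm (x : M2) (y : M2)
      rw [hyx, Matrix.trace_neg, eq_neg_iff_add_eq_zero, ← two_mul] at this
      exact (mul_eq_zero.mp this).resolve_left h2
    rw [hP, Matrix.trace_add, Matrix.trace_add, hxy, ← slTr_eq_trace, ← slTr_eq_trace, h.1, h.2.1]
    ring
  have hPP : P * P = (-3 : F) • (1 : M2) := by
    rw [show (-3 : F) • (1 : M2) = -1 + -1 + -1 by
      rw [show (-3 : F) = -1 + -1 + -1 by ring, add_smul, add_smul, neg_smul, one_smul]]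
    simp only [hP, add_mul, mul_add, mul_assoc, hxx, hyy, hyx, hxx', hyy', hyx', mul_neg, neg_mul, neg_neg,
      mul_one]
    abel
  let z : SL := ⟨(2 : F)⁻¹ • (1 + P), by
    rw [Matrix.det_smul, det_one_add htr hPP, Fintype.card_fin]
    field_simp
    ring⟩
  refine ⟨z, Subtype.ext ?_, Subtype.ext ?_⟩ <;>
    rw [Matrix.SpecialLinearGroup.coe_mul, Matrix.SpecialLinearGroup.coe_mul] <;>
    simp only [z, Matrix.SpecialLinearGroup.coe_mul, smul_mul_assoc, mul_smul_comm, mul_assoc] <;> congr 1 <;>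
    simp only [hP, add_mul, mul_add, mul_assoc, hxx, hyy, hyx, hxx', hyy', hyx', mul_neg, neg_mul, neg_neg,
      mul_one, one_mul] <;> abel

/-- The pair can be swapped exactly when two is a square. -/
theorem Anti.exists_swap_iff {x y : SL} (h2 : (2 : F) ≠ 0) (h : Anti x y) :
    (∃ s : PSL2, s * proj x * s⁻¹ = proj y ∧ s * proj y * s⁻¹ = proj x) ↔ IsSquare (2 : F) := by
  obtain ⟨hxx, hyy, hyx⟩ := h.val
  have hS : Matrix.trace ((x : M2) + (y : M2)) = 0 := by
    rw [Matrix.trace_add, ← slTr_eq_trace, ← slTr_eq_trace, h.1, h.2.1, add_zero]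
  have hSS : ((x : M2) + (y : M2)) * ((x : M2) + (y : M2)) = (-2 : F) • (1 : M2) := by
    rw [add_mul, mul_add, mul_add, hxx, hyy, hyx, show (-2 : F) = -1 + -1 by ring, add_smul, neg_smul,
      one_smul]
    abel
  constructor
  · rintro ⟨s, h1, h1'⟩
    obtain ⟨k₀, rfl⟩ := proj_surjective s
    rw [mul_inv_eq_iff_eq_mul, ← map_mul, ← map_mul, proj_eq_iff] at h1 h1'
    have nn : ∀ g : SL, g * negOne * negOne = g := fun g => by rw [mul_assoc, negOne_sq, mul_one]
    have cn : ∀ g w : SL, g * negOne * w = g * w * negOne := fun g w => by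
      rw [mul_assoc, negOne_central, ← mul_assoc]
    have sx := mul_self_of_trace_zero h.1
    have sy := mul_self_of_trace_zero h.2.1
    have hyx2 : y * x = x * y * negOne := by rw [h.2.2, nn]
    -- move to a lift exchanging `x` and `y` exactly
    obtain ⟨k, hk1, hk2⟩ : ∃ k : SL, k * x = y * k ∧ k * y = x * k := by
      rcases h1 with e1 | e1 <;> rcases h1' with e2 | e2
      · exact ⟨k₀, e1.symm, e2.symm⟩
      · refine ⟨k₀ * x, ?_, ?_⟩
        · rw [← mul_assoc y, e1]
        · rw [← mul_assoc x, e2, cn, mul_assoc k₀, mul_assoc k₀, mul_assoc k₀ _ negOne, ← h.2.2]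
      · refine ⟨k₀ * y, ?_, ?_⟩
        · rw [← mul_assoc y, e1, cn, mul_assoc k₀, mul_assoc k₀, mul_assoc k₀ _ negOne, ← hyx2]
        · rw [← mul_assoc x, e2]
      · refine ⟨k₀ * (x * y), ?_, ?_⟩
        · rw [← mul_assoc y, e1, cn]
          simp only [mul_assoc, hyx2]
        · rw [← mul_assoc x, e2, cn, mul_assoc k₀ (x * y), mul_assoc k₀ y, ← mul_assoc y x, hyx2, cn,
            mul_assoc k₀ _ negOne, nn]
    have hk2' : k * k * x = x * (k * k) := by
      rw [mul_assoc, hk1, ← mul_assoc, hk2, mul_assoc]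
    have hk2'' : k * k * y = y * (k * k) := by
      rw [mul_assoc, hk2, ← mul_assoc, hk1, mul_assoc]
    have hkt : slTr k = 0 := by
      rcases h.scalar h2 hk2' hk2'' with e | e
      · exfalso
        have hxy : x ≠ y := fun exy => negOne_ne_one h2 (by
          have e' := h.2.2
          rw [exy] at e'
          exact mul_eq_left.mp e'.symm)
        rcases sq_eq_one h2 e with rfl | rfl
        · exact hxy (by rwa [one_mul, mul_one] at hk1)
        · rw [negOne_central] at hk1
          exact hxy (mul_right_cancel hk1)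
      · have hne : k * k ≠ 1 := fun e' => negOne_ne_one h2 (e.symm.trans e')
        refine trace_zero_of_orderOf_four h2 (orderOf_eq_prime_pow (p := 2) (n := 1) ?_ ?_)
        · rwa [pow_one, pow_two]
        · rw [show 2 ^ (1 + 1) = 2 * 2 from rfl, pow_mul, pow_two k, e, pow_two, negOne_sq]
    have hc : ((x : M2) + (y : M2)) * k = (k : M2) * ((x : M2) + (y : M2)) := by
      rw [add_mul, mul_add, ← Matrix.SpecialLinearGroup.coe_mul, ← hk2, ← Matrix.SpecialLinearGroup.coe_mul y,
        ← hk1, Matrix.SpecialLinearGroup.coe_mul, Matrix.SpecialLinearGroup.coe_mul, add_comm]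
    obtain ⟨c, hc'⟩ := proportional hkt hS hc h2
    refine ⟨c, ?_⟩
    have hkk : (k : M2) * k = -1 := by
      rw [← Matrix.SpecialLinearGroup.coe_mul, mul_self_of_trace_zero hkt, negOne_val]
    rw [hc', smul_mul_smul_comm, hkk] at hSS
    have h00 := congrFun (congrFun hSS 0) 0
    simp at h00
    exact h00.symm
  · rintro ⟨r, hr⟩
    have hr0 : r ≠ 0 := fun e => h2 (by rw [hr, e, zero_mul])
    have hd : Matrix.det ((x : M2) + (y : M2)) = 2 := by
      have h0 := congrFun (congrFun hSS 0) 0
      simp [Matrix.mul_apply, Fin.sum_univ_two] at h0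
      rw [Matrix.trace_fin_two] at hS
      rw [Matrix.det_fin_two]
      simp at hS ⊢
      linear_combination ((x : M2) 0 0 + (y : M2) 0 0) * hS - h0
    let k : SL := ⟨r⁻¹ • ((x : M2) + (y : M2)), by
      rw [Matrix.det_smul, hd, Fintype.card_fin, hr]
      field_simp⟩
    refine ⟨proj k, ?_, ?_⟩ <;>
      rw [mul_inv_eq_iff_eq_mul, ← map_mul, ← map_mul] <;> congr 1 <;> apply Subtype.ext <;>
      rw [Matrix.SpecialLinearGroup.coe_mul, Matrix.SpecialLinearGroup.coe_mul] <;>
      simp only [k, Matrix.SpecialLinearGroup.coe_mul, smul_mul_assoc, mul_smul_comm] <;> congr 1 <;>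
      simp only [add_mul, mul_add, hxx, hyy, hyx] <;> abel

end Anti

theorem exists_anti (h2 : (2 : F) ≠ 0) {u v : PSL2} (h : IsPair u v) :
    ∃ x y : SL, proj x = u ∧ proj y = v ∧ Anti x y := by
  obtain ⟨x, rfl, hx⟩ := trace_zero_of_involution h.1
  obtain ⟨y, rfl, hy⟩ := trace_zero_of_involution h.2.1
  refine ⟨x, y, rfl, rfl, hx, hy, ?_⟩
  have e : proj (y * x) = proj (x * y) := by rw [map_mul, map_mul]; exact h.2.2.2.eq.symm
  rcases proj_eq_iff.mp e with e | e
  · exfalso
    obtain ⟨c, hc⟩ := proportional hx (by rw [← slTr_eq_trace, hy] : Matrix.trace (y : M2) = 0)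
      (by rw [← Matrix.SpecialLinearGroup.coe_mul, ← e, Matrix.SpecialLinearGroup.coe_mul]) h2
    exact h.2.2.1 (DicksonId.mk_eq_of_smul hc)
  · exact e

theorem card_involutions_mul (h2 : (2 : F) ≠ 0) {u : PSL2} (hu : orderOf u = 2) :
    Nat.card {w : PSL2 // orderOf w = 2} * Nat.card (Subgroup.centralizer {u}) = Nat.card PSL2 := by
  have hF2 : Fintype.card F % 2 = 1 := Nat.odd_iff.mp (two_ne_zero_iff.mp h2)
  have hr : Set.range (fun g : PSL2 => g * u * g⁻¹) = {w | orderOf w = 2} := by
    ext w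
    constructor
    · rintro ⟨g, rfl⟩
      show orderOf (MulAut.conj g u) = 2
      rw [MulEquiv.orderOf_eq, hu]
    · intro hw
      obtain ⟨x, rfl, hx⟩ := trace_zero_of_involution hu
      obtain ⟨y, rfl, hy⟩ := trace_zero_of_involution (hw : orderOf w = 2)
      obtain ⟨g, hg⟩ := exists_conj hF2 h2 (sq_ne_four h2 hx) (hy.trans hx.symm)
      exact ⟨proj g, by
        show proj g * proj x * (proj g)⁻¹ = proj y
        rw [← hg, map_mul, map_mul, map_inv]⟩
  have h := card_range_mul (fun g : PSL2 => g * u * g⁻¹) (Subgroup.centralizer {u}) fun a b => by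
    rw [Subgroup.mem_centralizer_singleton_iff]
    constructor
    · intro e
      calc a⁻¹ * b * u = a⁻¹ * (b * u * b⁻¹) * b := by group
        _ = u * (a⁻¹ * b) := by rw [← show a * u * a⁻¹ = b * u * b⁻¹ from e]; group
    · intro e
      calc a * u * a⁻¹ = a * (u * (a⁻¹ * b)) * b⁻¹ := by group
        _ = b * u * b⁻¹ := by rw [← e]; group
  rw [hr] at h
  exact h

theorem two_mul_card_partners (h2 : (2 : F) ≠ 0) {u : PSL2} (hu : orderOf u = 2) :
    2 * Nat.card {v : PSL2 // IsPair u v} = Nat.card (Subgroup.centralizer {u}) := by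
  classical
  obtain ⟨g, rfl, hg⟩ := trace_zero_of_involution hu
  have hgcd : Nat.gcd 2 (Fintype.card F - 1) = 2 := by
    have hF2 : Fintype.card F % 2 = 1 := Nat.odd_iff.mp (two_ne_zero_iff.mp h2)
    exact Nat.gcd_eq_left (by omega)
  set C : Subgroup PSL2 := Subgroup.centralizer {proj g}
  set T : Subgroup PSL2 := (torus g).map proj
  have hTt : T.comap proj = torus g := Subgroup.comap_map_eq_self fun z hz => by
    rcases proj_eq_one_iff.mp (MonoidHom.mem_ker.mp hz) with rfl | rfl
    · exact one_mem _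
    · exact negOne_mem_torus g
  have hTC : T ≤ C := by
    rintro _ ⟨t, ht, rfl⟩
    rw [Subgroup.mem_centralizer_singleton_iff, ← map_mul, mem_torus.mp ht, map_mul]
  have hC : Nat.card (pre g) = 2 * Nat.card C := by
    have h' := DicksonId.card_pre C
    rw [hgcd] at h'
    exact h'
  have hT : Nat.card (torus g) = 2 * Nat.card T := by
    have h' := DicksonId.card_pre T
    rw [hgcd] at h'
    rw [← hTt]
    exact h'
  have hpre := card_pre_zero h2 hg
  rw [hC, hT] at hpre
  have hset : {v : PSL2 | IsPair (proj g) v} = (C : Set PSL2) \ (T : Set PSL2) := by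
    ext v
    constructor
    · intro hv
      refine ⟨Subgroup.mem_centralizer_singleton_iff.mpr hv.2.2.2.eq.symm, ?_⟩
      rintro ⟨t, ht, rfl⟩
      obtain ⟨x, y, hx, hy, ha⟩ := exists_anti h2 hv
      refine negOne_ne_one h2 ?_
      have hcomm : x * y = y * x := by
        rcases proj_eq_iff.mp hx with rfl | rfl <;> rcases proj_eq_iff.mp hy with rfl | rfl
        · exact (mem_torus.mp ht).symm
        · have := (mem_torus.mp ht).symm
          rw [← mul_assoc, mul_assoc y, negOne_central, ← mul_assoc] at this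
          exact mul_right_cancel this
        · have := (mem_torus.mp ht).symm
          rw [← mul_assoc, mul_assoc x negOne, negOne_central, ← mul_assoc] at this
          exact mul_right_cancel this
        · have := (mem_torus.mp ht).symm
          simp only [← mul_assoc] at this
          rw [mul_assoc x negOne y, mul_assoc y negOne x, negOne_central, negOne_central, ← mul_assoc,
            ← mul_assoc] at this
          exact mul_right_cancel (mul_right_cancel this)
      exact mul_eq_left.mp (ha.2.2.symm.trans hcomm)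
    · rintro ⟨hv, hvT⟩
      obtain ⟨h, rfl⟩ := proj_surjective v
      rcases mem_pre.mp (show h ∈ pre g from hv) with e | e
      · exact absurd ⟨h, mem_torus.mpr e, rfl⟩ hvT
      refine (Anti.pair h2 (x := g) (y := h) ⟨hg, ?_, ?_⟩ : IsPair (proj g) (proj h))
      · have e' : g * h * g⁻¹ = h * negOne := by
          rw [mul_inv_eq_iff_eq_mul, mul_assoc, negOne_central, ← mul_assoc, e, mul_assoc (g * h),
            negOne_sq, mul_one]
        have := congrArg slTr e'
        rw [slTr_conj, slTr_mul_negOne] at this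
        exact (mul_eq_zero.mp (show (2 : F) * slTr h = 0 by linear_combination this)).resolve_left h2
      · rw [e, mul_assoc, negOne_sq, mul_one]
  have hcard : Nat.card {v : PSL2 // IsPair (proj g) v} = Nat.card C - Nat.card T := by
    show Nat.card ({v : PSL2 | IsPair (proj g) v} : Set PSL2) = _
    rw [hset, Nat.card_coe_set_eq, Set.ncard_sdiff (show (T : Set PSL2) ⊆ C from hTC) (Set.toFinite _)]
    rfl
  omega

/-- Twice the number of pairs is the group order. -/
theorem two_mul_card_pairs (h2 : (2 : F) ≠ 0) :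
    2 * Nat.card {p : PSL2 × PSL2 // IsPair p.1 p.2} = Nat.card PSL2 := by
  classical
  let e : {p : PSL2 × PSL2 // IsPair p.1 p.2} ≃ Σ u : {w : PSL2 // orderOf w = 2}, {v // IsPair u.1 v} :=
    { toFun := fun p => ⟨⟨p.1.1, p.2.1⟩, p.1.2, p.2⟩
      invFun := fun p => ⟨(p.1.1, p.2.1), p.2.2⟩
      left_inv := fun p => rfl
      right_inv := fun p => rfl }
  haveI : Nonempty {w : PSL2 // orderOf w = 2} :=
    ⟨⟨proj (DicksonFull.mk2 0 1 (-1) 0 (by ring)), proj_involution h2 (by
      rw [slTr_eq_trace, DicksonFull.trace_mk2]; ring)⟩⟩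
  haveI : Fintype {w : PSL2 // orderOf w = 2} := Fintype.ofFinite _
  rw [Nat.card_congr e, Nat.card_sigma]
  refine Nat.eq_of_mul_eq_mul_left (Nat.card_pos (α := {w : PSL2 // orderOf w = 2})) ?_
  rw [Finset.mul_sum, Finset.mul_sum]
  rw [Finset.sum_congr rfl fun u _ => (by
    rw [two_mul_card_partners h2 u.2, card_involutions_mul h2 u.2] :
    Nat.card {w : PSL2 // orderOf w = 2} * (2 * Nat.card {v // IsPair u.1 v}) = Nat.card PSL2)]
  simp [Nat.card_eq_fintype_card]

theorem twelve_mul_card (h2 : (2 : F) ≠ 0) :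
    12 * Nat.card {V : Subgroup PSL2 // IsKleinFour V} = Nat.card PSL2 := by
  rw [← two_mul_card_pairs h2, ← six_mul_card]; ring

/-- A four-group has normaliser of order 24 or 12 according as two is a square or not. -/
theorem card_normalizer (h2 : (2 : F) ≠ 0) {V : Subgroup PSL2} (hV : IsKleinFour V) :
    (IsSquare (2 : F) → Nat.card (Subgroup.normalizer (V : Set PSL2)) = 24) ∧
      (¬ IsSquare (2 : F) → Nat.card (Subgroup.normalizer (V : Set PSL2)) = 12) := by
  classical
  obtain ⟨u, v, h, rfl⟩ := exists_pair hV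
  obtain ⟨x, y, rfl, rfl, ha⟩ := exists_anti h2 h
  set U := proj x
  set W := proj y
  set V := four U W h
  set N := Subgroup.normalizer (V : Set PSL2)
  have hUV : U ∈ V := mem_four.mpr (Or.inr (Or.inl rfl))
  have hWV : W ∈ V := mem_four.mpr (Or.inr (Or.inr (Or.inl rfl)))
  have hUWV : U * W ∈ V := mul_mem hUV hWV
  have hU1 := ne_one_of_order h.1
  have hW1 := ne_one_of_order h.2.1
  have hUW := h.2.2.1
  have hUU := mul_self_of_order h.1
  have hWW := mul_self_of_order h.2.1
  have hcomm := h.2.2.2.eq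
  let f : N → PSL2 × PSL2 := fun g => ((g : PSL2) * U * (g : PSL2)⁻¹, (g : PSL2) * W * (g : PSL2)⁻¹)
  -- the centraliser is the four-group
  have hcent : ∀ g : PSL2, g * U * g⁻¹ = U → g * W * g⁻¹ = W → g ∈ V := by
    intro g hgU hgW
    obtain ⟨k, rfl⟩ := proj_surjective g
    rw [mul_inv_eq_iff_eq_mul, ← map_mul, ← map_mul, proj_eq_iff] at hgU hgW
    have cn : ∀ g w : SL, g * negOne * w = g * w * negOne := fun g w => by
      rw [mul_assoc, negOne_central, ← mul_assoc]
    have nn : ∀ g : SL, g * negOne * negOne = g := fun g => by rw [mul_assoc, negOne_sq, mul_one]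
    have hyx2 : y * x = x * y * negOne := by rw [ha.2.2, nn]
    obtain ⟨t, htV, htx, hty⟩ : ∃ t : SL, proj t ∈ V ∧ k * t * x = x * (k * t) ∧ k * t * y = y * (k * t) := by
      rcases hgU with eU | eU <;> rcases hgW with eW | eW
      · exact ⟨1, by rw [map_one]; exact one_mem _, by simpa using eU.symm, by simpa using eW.symm⟩
      · refine ⟨x, hUV, ?_, ?_⟩
        · rw [← mul_assoc x, eU]
        · rw [← mul_assoc y, eW, cn, mul_assoc k, mul_assoc k, hyx2, mul_assoc k _ negOne, nn]
      · refine ⟨y, hWV, ?_, ?_⟩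
        · rw [← mul_assoc x, eU, cn, mul_assoc k, mul_assoc k, ha.2.2, mul_assoc k _ negOne, nn]
        · rw [← mul_assoc y, eW]
      · refine ⟨x * y, by rw [map_mul]; exact hUWV, ?_, ?_⟩
        · rw [← mul_assoc x, eU, cn, mul_assoc k, mul_assoc k, mul_assoc k, ← mul_assoc x,
            mul_assoc x y x, hyx2, ← mul_assoc x, ← mul_assoc x]
        · rw [← mul_assoc y, eW, cn, mul_assoc k, mul_assoc k, mul_assoc k, ← mul_assoc y, hyx2, cn, nn]
    have hk : proj k * proj t = 1 := by
      rcases ha.scalar h2 htx hty with e | e <;> rw [← map_mul, e]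
      · exact map_one _
      · exact proj_eq_one_iff.mpr (Or.inr rfl)
    rw [eq_inv_of_mul_eq_one_left hk]
    exact inv_mem htV
  have hle : V ≤ N := Subgroup.le_normalizer
  have hS : ∀ a b : N, f a = f b ↔ a⁻¹ * b ∈ V.subgroupOf N := by
    intro a b
    rw [Subgroup.mem_subgroupOf, Subgroup.coe_mul, Subgroup.coe_inv]
    constructor
    · intro e
      refine hcent _ ?_ ?_
      · rw [show ((a : PSL2)⁻¹ * b) * U * ((a : PSL2)⁻¹ * b)⁻¹ = (a : PSL2)⁻¹ * (f b).1 * a by
          simp only [f]; group, ← e]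
        simp only [f]; group
      · rw [show ((a : PSL2)⁻¹ * b) * W * ((a : PSL2)⁻¹ * b)⁻¹ = (a : PSL2)⁻¹ * (f b).2 * a by
          simp only [f]; group, ← e]
        simp only [f]; group
    · intro e
      obtain ⟨w, hw, hb⟩ : ∃ w ∈ V, (b : PSL2) = a * w := ⟨_, e, (mul_inv_cancel_left _ _).symm⟩
      have hfix : ∀ z ∈ V, w * z * w⁻¹ = z := fun z hz => by
        rcases eq_or_ne w 1 with rfl | hw1
        · simp
        rcases eq_or_ne z 1 with rfl | hz1
        · simp
        rcases eq_or_ne w z with rfl | hwz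
        · simp
        rw [(isPair_of_klein hV hw hz hw1 hz1 hwz).2.2.2.eq, mul_inv_cancel_right]
      refine Prod.ext ?_ ?_ <;> simp only [f, hb]
      · calc (a : PSL2) * U * (a : PSL2)⁻¹ = a * (w * U * w⁻¹) * (a : PSL2)⁻¹ := by rw [hfix U hUV]
          _ = _ := by group
      · calc (a : PSL2) * W * (a : PSL2)⁻¹ = a * (w * W * w⁻¹) * (a : PSL2)⁻¹ := by rw [hfix W hWV]
          _ = _ := by group
  have hmain := card_range_mul f (V.subgroupOf N) hS
  rw [Nat.card_congr (Subgroup.subgroupOfEquivOfLe hle).toEquiv, card_four] at hmain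
  have hmemN : ∀ g : PSL2, g * U * g⁻¹ ∈ V → g * W * g⁻¹ ∈ V → g ∈ N := fun g hu' hw' => by
    refine PSLTwo.Sylow.mem_normalizer_of_conj_mem fun a ha' => ?_
    rcases mem_four.mp ha' with rfl | rfl | rfl | rfl
    · simp [one_mem]
    · exact hu'
    · exact hw'
    · rw [show g * (U * W) * g⁻¹ = (g * U * g⁻¹) * (g * W * g⁻¹) by group]
      exact mul_mem hu' hw'
  obtain ⟨z, hzx, hzy⟩ := ha.exists_rotation h2
  have z1 : proj z * U * (proj z)⁻¹ = W := by
    rw [mul_inv_eq_iff_eq_mul, ← map_mul, ← map_mul, hzx]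
  have z2 : proj z * W * (proj z)⁻¹ = U * W := by
    rw [mul_inv_eq_iff_eq_mul, ← map_mul, ← map_mul, ← map_mul, hzy]
  have z3 : proj z * (U * W) * (proj z)⁻¹ = U := by
    rw [show proj z * (U * W) * (proj z)⁻¹ = (proj z * U * (proj z)⁻¹) * (proj z * W * (proj z)⁻¹) by group,
      z1, z2, hcomm, ← mul_assoc, hWW, one_mul]
  have hzN : proj z ∈ N := hmemN _ (by rw [z1]; exact hWV) (by rw [z2]; exact hUWV)
  -- composition with the rotation
  have step : ∀ a b, (a, b) ∈ Set.range f → (proj z * a * (proj z)⁻¹, proj z * b * (proj z)⁻¹) ∈ Set.range f := by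
    rintro a b ⟨g, hg⟩
    refine ⟨⟨proj z, hzN⟩ * g, ?_⟩
    rw [Prod.mk.injEq] at hg
    simp only [f, Subgroup.coe_mul, Prod.mk.injEq]
    constructor
    · rw [← hg.1]; group
    · rw [← hg.2]; group
  have r1 : (U, W) ∈ Set.range f := ⟨1, by simp [f]⟩
  have r2 : (W, U * W) ∈ Set.range f := by simpa [z1, z2] using step _ _ r1
  have r3 : (U * W, U) ∈ Set.range f := by simpa [z2, z3] using step _ _ r2
  have d1 : U * W ≠ U := fun e => hW1 (mul_eq_left.mp e)
  have d2 : U * W ≠ W := fun e => hU1 (mul_eq_right.mp e)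
  let A : Finset (PSL2 × PSL2) := {(U, W), (W, U * W), (U * W, U)}
  let B : Finset (PSL2 × PSL2) := {(W, U), (U * W, W), (U, U * W)}
  have hA : A.card = 3 := by simp [A, hUW, d1.symm, d2.symm]
  have hB : (A ∪ B).card = 6 := by
    simp [A, B, hUW, hUW.symm, d1, d2, d1.symm, d2.symm]
  have hsub : Set.range f ⊆ ↑(A ∪ B) := by
    rintro _ ⟨g, rfl⟩
    have m1 : (g : PSL2) * U * (g : PSL2)⁻¹ ∈ V := (Subgroup.mem_normalizer_iff.mp g.2 U).mp hUV
    have m2 : (g : PSL2) * W * (g : PSL2)⁻¹ ∈ V := (Subgroup.mem_normalizer_iff.mp g.2 W).mp hWV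
    have n1 : (g : PSL2) * U * (g : PSL2)⁻¹ ≠ 1 := fun e => hU1 (conj_eq_one_iff.mp e)
    have n2 : (g : PSL2) * W * (g : PSL2)⁻¹ ≠ 1 := fun e => hW1 (conj_eq_one_iff.mp e)
    have n3 : (g : PSL2) * U * (g : PSL2)⁻¹ ≠ (g : PSL2) * W * (g : PSL2)⁻¹ := fun e =>
      hUW (mul_left_cancel (mul_right_cancel e))
    simp only [f, A, B, Finset.coe_union, Finset.coe_insert, Finset.coe_singleton, Set.mem_union,
      Set.mem_insert_iff, Set.mem_singleton_iff, Prod.mk.injEq]
    rcases mem_four.mp m1 with e1 | e1 | e1 | e1 <;> rcases mem_four.mp m2 with e2 | e2 | e2 | e2 <;>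
      first
        | (exfalso; exact n1 e1)
        | (exfalso; exact n2 e2)
        | (exfalso; exact n3 (e1.trans e2.symm))
        | simp [e1, e2]
  have hAsub : (↑A : Set (PSL2 × PSL2)) ⊆ Set.range f := by
    intro p hp
    simp only [A, Finset.coe_insert, Finset.coe_singleton, Set.mem_insert_iff, Set.mem_singleton_iff] at hp
    rcases hp with rfl | rfl | rfl <;> assumption
  refine ⟨fun hsq => ?_, fun hsq => ?_⟩
  · obtain ⟨s, s1, s2⟩ := (ha.exists_swap_iff h2).mpr hsq
    have r4 : (W, U) ∈ Set.range f := ⟨⟨s, hmemN s (s1 ▸ hWV) (s2 ▸ hUV)⟩, by simp only [f, U, W, s1, s2]⟩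
    have r5 : (U * W, W) ∈ Set.range f := by simpa [z1, z2] using step _ _ r4
    have r6 : (U, U * W) ∈ Set.range f := by simpa [z2, z3] using step _ _ r5
    have heq : Set.range f = ↑(A ∪ B) := hsub.antisymm fun p hp => by
      simp only [A, B, Finset.coe_union, Finset.coe_insert, Finset.coe_singleton, Set.mem_union,
        Set.mem_insert_iff, Set.mem_singleton_iff] at hp
      rcases hp with (rfl | rfl | rfl) | rfl | rfl | rfl <;> assumption
    rw [heq, Nat.card_coe_set_eq, Set.ncard_coe_finset, hB] at hmain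
    exact hmain.symm
  · have heq : Set.range f = ↑A := by
      refine Set.Subset.antisymm (fun p hp => ?_) hAsub
      have hp' := hsub hp
      rw [Finset.coe_union] at hp'
      refine hp'.resolve_right fun hB' => hsq ((ha.exists_swap_iff h2).mp ?_)
      have sw : (W, U) ∈ Set.range f := by
        simp only [B, Finset.coe_insert, Finset.coe_singleton, Set.mem_insert_iff, Set.mem_singleton_iff] at hB'
        rcases hB' with rfl | rfl | rfl
        · exact hp
        · have e := step _ _ hp
          rw [z3, z2] at e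
          have e' := step _ _ e
          rwa [z1, z3] at e'
        · have e := step _ _ hp
          rwa [z1, z3] at e
      obtain ⟨g, hg⟩ := sw
      rw [Prod.mk.injEq] at hg
      exact ⟨g, hg.1, hg.2⟩
    rw [heq, Nat.card_coe_set_eq, Set.ncard_coe_finset, hA] at hmain
    exact hmain.symm

end Cfsg.Agent.Lib.PSLFacts.FourGroups
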