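import Cfsg.Agent.Lib.DicksonId.Consequences
import Cfsg.Agent.Lib.DicksonFull.Exist
import Cfsg.Agent.Lib.DicksonFull.Maximal
import Cfsg.Agent.Lib.HallPSL.Dihedral
import Cfsg.Agent.Lib.RecogThree.PSL2Orders
import Cfsg.Agent.Lib.TwoGroups.Recognition

/-!
Maximal dihedral subgroups of `PSL(2, F)`.
-/

set_option autoImplicit false

namespace Cfsg.Agent.Lib.PSLFacts.DihedralMax

open Matrix Cfsg.Agent.Lib.Linear Cfsg.Agent.Lib.DicksonId
open Cfsg.Agent.Lib.DicksonFull (pslExt)
open Cfsg.Agent.Lib.RecogThree.PSL2Orders (dd)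

variable {F : Type*} [Field F] [Fintype F] {p : ℕ} [hp : Fact p.Prime] [CharP F p]

local notation "SL2" => Matrix.SpecialLinearGroup (Fin 2) F
local notation "M2" => Matrix (Fin 2) (Fin 2) F
local notation "PSL2" => Matrix.ProjectiveSpecialLinearGroup (Fin 2) F

omit [Fintype F] in
/-- In characteristic two an element of non-zero trace is inverted by an element of trace zero. -/
theorem exists_inverter_two (h2 : (2 : F) = 0) (x : SL2) (hx : Matrix.trace (x : M2) ≠ 0) :
    ∃ w : SL2, Matrix.trace (w : M2) = 0 ∧ w * x = x⁻¹ * w := by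
  have hdet := Matrix.det_fin_two (x : M2)
  rw [x.det_coe] at hdet
  rw [Matrix.trace_fin_two] at hx
  obtain ⟨A, B, C, hABC, hbc⟩ : ∃ a b c : F,
      a * ((x : M2) 0 0 - (x : M2) 1 1) + b * (x : M2) 1 0 + c * (x : M2) 0 1 = 0 ∧ a * -a - b * c = 1 := by
    set α := (x : M2) 0 0
    set β := (x : M2) 0 1
    set γ := (x : M2) 1 0
    set δ := (x : M2) 1 1
    have hd : α - δ ≠ 0 := fun h => hx (by linear_combination h + δ * h2)
    by_cases hβ : β = 0
    · refine ⟨γ, -(α - δ), (1 + γ ^ 2) / (α - δ), by rw [hβ]; ring, ?_⟩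
      field_simp
      ring
    · refine ⟨1, 0, -(α - δ) / β, by field_simp; ring, ?_⟩
      linear_combination (-1) * h2
  refine ⟨DicksonFull.mk2 A B C (-A) hbc, by rw [DicksonFull.trace_mk2]; ring, ?_⟩
  apply Subtype.ext
  rw [Matrix.SpecialLinearGroup.coe_mul, Matrix.SpecialLinearGroup.coe_mul, Matrix.SpecialLinearGroup.coe_inv,
    Matrix.adjugate_fin_two]
  ext i j
  fin_cases i <;> fin_cases j <;> simp [DicksonFull.mk2, Matrix.mul_apply, Fin.sum_univ_two] <;>
    first | ring1 | linear_combination hABC | linear_combination -hABC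

include hp in
/-- An element of order at least three and prime to `p` is inverted by an involution. -/
theorem exists_inverting {z : PSL2} (hpz : ¬ p ∣ orderOf z) (h3 : 3 ≤ orderOf z) :
    ∃ W : PSL2, W * W = 1 ∧ W * z * W⁻¹ = z⁻¹ ∧ W ∉ Subgroup.zpowers z := by
  obtain ⟨x, rfl⟩ := QuotientGroup.mk_surjective z
  obtain ⟨w, hw, hwx⟩ : ∃ w : SL2, Matrix.trace (w : M2) = 0 ∧ w * x = x⁻¹ * w := by
    by_cases h2 : (2 : F) = 0
    · refine exists_inverter_two h2 x fun h => ?_
      have := Nat.le_of_dvd two_pos (orderOf_dvd_of_pow_eq_one (DicksonFull.mk_pow_two (x := x) h))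
      omega
    · refine HallPSL.exists_inverter h2 x (HallPSL.trace_sq_ne_four p h2 fun h => ?_)
      rcases hp.out.eq_one_or_self_of_dvd _ (orderOf_dvd_of_pow_eq_one h) with e | e
      · omega
      · exact hpz e.symm.dvd
  set z : PSL2 := (x : PSL2)
  set W : PSL2 := (w : PSL2)
  have hWz : W * z * W⁻¹ = z⁻¹ := by
    rw [mul_inv_eq_iff_eq_mul, ← QuotientGroup.mk_inv, ← QuotientGroup.mk_mul,
      ← QuotientGroup.mk_mul, hwx]
  refine ⟨W, by rw [← pow_two]; exact DicksonFull.mk_pow_two hw, hWz, fun h => ?_⟩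
  obtain ⟨i, hi⟩ := Subgroup.mem_zpowers_iff.1 h
  rw [← hi, show z ^ i * z = z * z ^ i from ((Commute.refl z).zpow_left i).eq, mul_inv_cancel_right] at hWz
  have := Nat.le_of_dvd two_pos (orderOf_dvd_of_pow_eq_one (x := z) (n := 2) (by
    rw [pow_two]; nth_rewrite 2 [hWz]; exact mul_inv_cancel z))
  omega

omit hp in
/-- In a subfield group the square of an element has order one of those in `PSL(2, p^k)`. -/
theorem orderOf_sq_cases [Fact p.Prime] {G : Subgroup PSL2} {k : ℕ} (h : IsSubfieldGroup p G k) {z : PSL2}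
    (hz : z ∈ G) :
    orderOf (z ^ 2) ∣ p ∨ orderOf (z ^ 2) ∣ (p ^ k - 1) / dd (p ^ k) ∨
      orderOf (z ^ 2) ∣ (p ^ k + 1) / dd (p ^ k) := by
  obtain ⟨hk, -, -, g, φ, hφ⟩ := h
  letI : Fintype (GaloisField p k) := Fintype.ofFinite _
  have hK : Fintype.card (GaloisField p k) = p ^ k := by
    rw [← Nat.card_eq_fintype_card, GaloisField.card p k hk.ne']
  have hsq : ((conjGEquiv g G ⟨z, hz⟩ : conjG g G) : PSL2) ^ 2 ∈ (pslExt φ).range := by
    have hm : ((conjGEquiv g G ⟨z, hz⟩ : conjG g G) : PSL2) ∈ conjG g G := SetLike.coe_mem _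
    generalize ((conjGEquiv g G ⟨z, hz⟩ : conjG g G) : PSL2) = w at hm ⊢
    rcases hφ with e | ⟨-, -, ψ, hψ, e⟩
    · exact pow_mem (e ▸ hm) 2
    · rw [e] at hm
      obtain ⟨x, M, c, hx, hxe⟩ := hψ.surj _ hm
      set D := (M : Matrix (Fin 2) (Fin 2) (GaloisField p k)).det with hD
      have hD0 : D ≠ 0 := GeneralLinearGroup.det_ne_zero M
      let y : Matrix.SpecialLinearGroup (Fin 2) (GaloisField p k) :=
        ⟨D⁻¹ • ((M : Matrix (Fin 2) (Fin 2) (GaloisField p k)) * M), by
          rw [Matrix.det_smul, Fintype.card_fin, Matrix.det_mul, ← hD]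
          field_simp⟩
      refine ⟨(y : Matrix.ProjectiveSpecialLinearGroup (Fin 2) (GaloisField p k)), ?_⟩
      rw [hxe, DicksonFull.pslExt_mk, ← QuotientGroup.mk_pow]
      refine mk_eq_of_smul (c := (c * c * φ D)⁻¹) ?_
      have hdet : 1 = c ^ 2 * φ D := by
        have := congrArg Matrix.det hx
        rwa [x.det_coe, Matrix.det_smul, Fintype.card_fin, ← RingHom.mapMatrix_apply,
          ← RingHom.map_det, ← hD] at this
      have hy2 : ((DicksonFull.slExt φ y : SL2) : M2) =
          (φ D)⁻¹ • ((M : Matrix (Fin 2) (Fin 2) (GaloisField p k)).map φ *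
            (M : Matrix (Fin 2) (Fin 2) (GaloisField p k)).map φ) := by
        ext i j
        rw [DicksonFull.slExt_apply]
        simp [y, Matrix.mul_apply, Fin.sum_univ_two]
      have hφD : φ D ≠ 0 := fun h => one_ne_zero (α := F) (by rw [hdet, h, mul_zero])
      have hc0 : c ≠ 0 := fun h => one_ne_zero (α := F) (by rw [hdet, h]; ring)
      rw [hy2, pow_two x, Matrix.SpecialLinearGroup.coe_mul, hx, Matrix.smul_mul, Matrix.mul_smul]
      simp only [smul_smul]
      congr 1
      field_simp
      linear_combination (-(1 + c ^ 2 * φ D)) * hdet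
  obtain ⟨u, hu⟩ := hsq
  have ho : orderOf (z ^ 2) = orderOf u := by
    rw [← orderOf_injective (pslExt φ) (DicksonFull.pslExt_injective φ) u, hu, ← Subgroup.coe_pow,
      Subgroup.orderOf_coe, ← map_pow, MulEquiv.orderOf_eq, ← Subgroup.orderOf_coe]
    rfl
  rw [ho, ← hK]
  exact RecogThree.PSL2Orders.orderOf_cases p u

theorem alt_four_inverted : ∀ a b : alternatingGroup (Fin 4), b * b = 1 → b * a * b⁻¹ = a⁻¹ →
    a * a = 1 := by decide +kernel

theorem perm_four_orders : ∀ a : Equiv.Perm (Fin 4), a ^ 3 = 1 ∨ a ^ 4 = 1 := by decide +kernel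

theorem alt_five_orders : ∀ a : alternatingGroup (Fin 5), a ^ 2 = 1 ∨ a ^ 3 = 1 ∨ a ^ 5 = 1 := by
  decide +kernel

/-- The overgroups of a dihedral subgroup of order `2 (q ± 1) / d`. -/
theorem overgroup_cases (p : ℕ) [hp : Fact p.Prime] [CharP F p] (M : Subgroup PSL2) {z W : PSL2} {n : ℕ} (hz : z ∈ M) (hW : W ∈ M)
    (hord : orderOf z = n) (hn : n * dd (Fintype.card F) = Fintype.card F + 1 ∨
      n * dd (Fintype.card F) = Fintype.card F - 1)
    (h9 : Fintype.card F ≠ 9) (h3 : 3 ≤ n) (h24 : 5 ≤ n ∨ ¬ 24 ∣ Nat.card PSL2)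
    (h60 : 6 ≤ n ∨ Nat.card PSL2 ≤ 60)
    (hWW : W * W = 1) (hWz : W * z * W⁻¹ = z⁻¹) (hdvd : 2 * n ∣ Nat.card M) :
    Nat.card M = 2 * n ∨ Nat.card PSL2 ≤ Nat.card M := by
  classical
  obtain ⟨f, hf, hq⟩ := exists_card_eq_pow (F := F) p
  have hpn : ¬ p ∣ n := fun h => by
    have hpd : p ∣ Fintype.card F := hq ▸ dvd_pow_self p hf.ne'
    have h1 := h.mul_right (dd (Fintype.card F))
    rcases hn with e | e <;> rw [e] at h1
    · exact hp.out.not_dvd_one ((Nat.dvd_add_right hpd).mp h1)
    · have := Nat.dvd_sub hpd h1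
      rw [Nat.sub_sub_self Fintype.card_pos] at this
      exact hp.out.not_dvd_one this
  have hz2 : ∀ m, z ^ m = 1 → n ∣ m := fun m h => hord ▸ orderOf_dvd_of_pow_eq_one h
  have not2 : ¬ n ∣ 2 := fun h => by
    have := Nat.le_of_dvd two_pos h
    omega
  let zM : M := ⟨z, hz⟩
  let WM : M := ⟨W, hW⟩
  have hzMo : orderOf zM = n := (Subgroup.orderOf_coe zM).symm.trans hord
  have hWzM : WM * zM * WM⁻¹ = zM⁻¹ := Subtype.ext hWz
  -- a cyclic or dihedral overgroup has order `2 n`
  have small : (IsCyclic M ∧ ¬ p ∣ Nat.card M) ∨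
      (∃ k, ¬ p ∣ k ∧ (∃ x ∈ M, orderOf x = k) ∧ Nonempty (M ≃* DihedralGroup k)) →
      Nat.card M = 2 * n := by
    rintro (⟨hcy, -⟩ | ⟨k, hpk, ⟨x, -, hx⟩, ⟨e⟩⟩)
    · exfalso
      haveI := hcy
      obtain ⟨g, hg⟩ := IsCyclic.exists_generator (α := M)
      obtain ⟨i, hi⟩ := Subgroup.mem_zpowers_iff.1 (hg WM)
      obtain ⟨j, hj⟩ := Subgroup.mem_zpowers_iff.1 (hg zM)
      rw [show WM * zM = zM * WM by rw [← hi, ← hj, zpow_mul_comm], mul_inv_cancel_right] at hWzM
      apply not2
      rw [← hzMo]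
      refine orderOf_dvd_of_pow_eq_one ?_
      rw [pow_two]
      nth_rewrite 2 [hWzM]
      exact mul_inv_cancel _
    have hk0 : 0 < k := hx ▸ orderOf_pos x
    have hnk : n ∣ k := by
      rw [← hzMo, ← MulEquiv.orderOf_eq e zM]
      rcases h : e zM with i | i
      · refine orderOf_dvd_of_pow_eq_one ?_
        rw [DihedralGroup.r_pow, ← nsmul_eq_mul', ZModModule.char_nsmul_eq_zero, DihedralGroup.one_def]
      · exfalso
        rw [← hzMo, ← MulEquiv.orderOf_eq e zM, h, DihedralGroup.orderOf_sr] at h3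
        omega
    have hkn : k ∣ n := by
      have hdd : 0 < dd (Fintype.card F) := by unfold dd; split_ifs <;> norm_num
      have hdiv : ∀ m, n * dd (Fintype.card F) = m → m / dd (Fintype.card F) = n := fun m e => by
        rw [← e, Nat.mul_div_cancel _ hdd]
      have hmul : ∀ m, k ∣ m / dd (Fintype.card F) → dd (Fintype.card F) ∣ m → n ∣ m := fun m h h' =>
        (hnk.trans h).trans (Nat.div_dvd_of_dvd h')
      have hd' : dd (Fintype.card F) ∣ Fintype.card F + 1 ∧ dd (Fintype.card F) ∣ Fintype.card F - 1 := by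
        unfold dd; split_ifs with h
        · exact ⟨one_dvd _, one_dvd _⟩
        · have := Fintype.card_pos (α := F); constructor <;> omega
      have hnn : ∀ m, n * dd (Fintype.card F) = m → n ∣ m := fun m e => e ▸ dvd_mul_right n _
      have hlt := Fintype.one_lt_card (α := F)
      rcases DicksonId.orderOf_dvd_of_not_dvd (p := p) (x := x) (hx ▸ hpk) with h | h <;>
        rw [hx, ← dd_eq_gcd (p := p)] at h <;> rcases hn with e | e
      · rwa [hdiv _ e] at h
      · exfalso
        refine not2 ?_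
        have := Nat.dvd_sub (hmul _ h hd'.1) (hnn _ e)
        rwa [show Fintype.card F + 1 - (Fintype.card F - 1) = 2 by omega] at this
      · exfalso
        refine not2 ?_
        have := Nat.dvd_sub (hnn _ e) (hmul _ h hd'.2)
        rwa [show Fintype.card F + 1 - (Fintype.card F - 1) = 2 by omega] at this
      · rwa [hdiv _ e] at h
    rw [Nat.card_congr e.toEquiv, DihedralGroup.nat_card, Nat.dvd_antisymm hkn hnk]
  by_cases hpM : p ∣ Nat.card M
  · rcases DicksonFull.dvd_cases M hpM with ⟨h1, -, -⟩ | ⟨q', k, hk, rfl, hk1, hk2, hc⟩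
    · exfalso
      have h := congrArg Subtype.val (h1 WM zM)
      simp only [SubmonoidClass.coe_pow, Subgroup.coe_mul, InvMemClass.coe_inv, OneMemClass.coe_one,
        zM, WM] at h
      rw [hWz, ← _root_.mul_inv_rev, _root_.inv_pow, inv_eq_one, ← pow_two, ← pow_mul] at h
      exact not2 ((Nat.Coprime.dvd_of_dvd_mul_right
        ((hp.out.coprime_iff_not_dvd.mpr hpn).symm) (hz2 _ h)))
    rcases hc with ⟨hq2, C, hC, hi⟩ | ⟨hq3, hfm⟩ | ⟨hq3, hM60⟩
    · left
      refine small (psl_cyclic_or_dihedral M C hC hi.le fun hd => hk2 ?_)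
      have hp2 : p = 2 := (Nat.prime_dvd_prime_iff_eq hp.out Nat.prime_two).mp (hq2 ▸ dvd_pow_self p hk.ne')
      rw [← Subgroup.card_mul_index C, hi, pow_succ, hq2, mul_comm]
      exact Nat.mul_dvd_mul_right hd 2
    · right
      obtain ⟨hkf, hrest⟩ := subfield_ident M hk hk1 hk2 hfm
      have hkf' := hkf f hq
      obtain ⟨r, rfl⟩ := hkf'
      have hG : Nat.card PSL2 * dd (Fintype.card F) + Fintype.card F = Fintype.card F ^ 3 := by
        unfold dd
        split_ifs with h
        · rw [mul_one]; exact DicksonFull.card_psl_even (even_iff_two_dvd.mpr h)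
        · rw [mul_comm]; exact DicksonFull.card_psl_odd (Nat.odd_iff.mpr (by omega))
      rcases Nat.lt_or_ge r 2 with hr | hr
      · obtain rfl : r = 1 := by
          have : r ≠ 0 := by rintro rfl; simp at hf
          omega
        rw [mul_one] at hq
        rw [← hq] at hfm hk1
        unfold dd at hG
        split_ifs at hG with h2q
        · rcases hfm with e | e
          · exfalso
            obtain ⟨m, hm⟩ := hk1
            obtain ⟨j, hj⟩ := h2q
            have : 2 * m + 1 = Fintype.card F * Fintype.card F :=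
              Nat.eq_of_mul_eq_mul_left Fintype.card_pos
                (show Fintype.card F * (2 * m + 1) = Fintype.card F * (Fintype.card F * Fintype.card F) by
                  rw [hm] at e; linarith [e])
            rw [hj, mul_assoc] at this
            omega
          · omega
        · omega
      exfalso
      have hm := orderOf_sq_cases ⟨hk, hq3, hkf, hrest⟩ hz
      rw [orderOf_pow, hord] at hm
      have hq'q : p ^ k * p ^ k ≤ Fintype.card F := by
        rw [hq, ← pow_add]
        exact Nat.pow_le_pow_right hp.out.pos (by nlinarith)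
      have hnm : n ≤ 2 * (n / Nat.gcd n 2) ∧ n / Nat.gcd n 2 ∣ n := by
        refine ⟨?_, Nat.div_dvd_of_dvd (Nat.gcd_dvd_left _ _)⟩
        have hl := Nat.gcd_dvd_left n 2
        rcases (Nat.dvd_prime Nat.prime_two).mp (Nat.gcd_dvd_right n 2) with e | e <;>
          rw [e] at hl ⊢ <;> omega
      have hdd : dd (p ^ k) = dd (Fintype.card F) := by
        have hr0 : k * r ≠ 0 := hf.ne'
        unfold dd
        rw [hq]
        by_cases h : p = 2
        · rw [h, if_pos (dvd_pow_self 2 hk.ne'), if_pos (dvd_pow_self 2 hr0)]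
        · have hne : ∀ j, ¬ 2 ∣ p ^ j := fun j hd =>
            h ((Nat.prime_dvd_prime_iff_eq Nat.prime_two hp.out).mp
              (Nat.prime_two.dvd_of_dvd_pow hd)).symm
          rw [if_neg (hne k), if_neg (hne _)]
      have hle : n / Nat.gcd n 2 ≤ (p ^ k + 1) / dd (p ^ k) := by
        have hpos : 0 < (p ^ k - 1) / dd (p ^ k) ∧ 0 < (p ^ k + 1) / dd (p ^ k) := by
          unfold dd; split_ifs <;> omega
        rcases hm with h | h | h
        · exfalso
          rcases (Nat.dvd_prime hp.out).mp h with e | e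
          · omega
          · exact hpn (e ▸ hnm.2)
        · exact (Nat.le_of_dvd hpos.1 h).trans (Nat.div_le_div_right (by omega))
        · exact Nat.le_of_dvd hpos.2 h
      rw [hdd] at hle
      have hd12 : dd (Fintype.card F) = 1 ∨ dd (Fintype.card F) = 2 := by
        unfold dd; split_ifs <;> simp
      have key : Fintype.card F - 1 ≤ 2 * (p ^ k + 1) := by
        rcases hd12 with e | e <;> rw [e] at hn hle <;> omega
      have hk3 : p ^ k ≤ 3 := by
        by_contra h4
        have := Nat.mul_le_mul_right (p ^ k) (show 4 ≤ p ^ k by omega)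
        omega
      have hk3' : p ^ k = 3 := by omega
      rw [hk3'] at key hq'q
      obtain ⟨hp3, hk1'⟩ : p = 3 ∧ k = 1 := by
        have hp3 : p = 3 := (Nat.prime_dvd_prime_iff_eq hp.out Nat.prime_three).mp (hk3' ▸ dvd_pow_self p hk.ne')
        refine ⟨hp3, Nat.pow_right_injective hp.out.two_le (show p ^ k = p ^ 1 from hk3'.trans ?_)⟩
        rw [pow_one, hp3]
      rw [hp3, hk1', one_mul] at hq
      rcases Nat.lt_or_ge r 3 with h | h
      · obtain rfl : r = 2 := by omega
        exact h9 hq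
      · have := Nat.pow_le_pow_right (show 0 < 3 by norm_num) h
        omega
    · right
      rcases h60 with h6 | h60
      · exfalso
        have hp3 : p = 3 := (Nat.prime_dvd_prime_iff_eq hp.out Nat.prime_three).mp (hq3 ▸ dvd_pow_self p hk.ne')
        rw [hM60] at hdvd
        have h30 : n ∣ 30 := Nat.dvd_of_mul_dvd_mul_left two_pos (by simpa using hdvd)
        have hn10 : n = 10 := by
          subst hp3
          have := Nat.le_of_dvd (by norm_num) h30
          interval_cases n <;> first | rfl | omega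
        subst hn10 hp3
        have hodd : ¬ 2 ∣ Fintype.card F := fun hd => by
          rw [hq] at hd
          exact absurd (Nat.prime_two.dvd_of_dvd_pow hd) (by norm_num)
        rw [show dd (Fintype.card F) = 2 from if_neg hodd] at hn
        rcases Nat.lt_or_ge f 3 with h | h
        · interval_cases f <;> omega
        · have := Nat.pow_le_pow_right (show 0 < 3 by norm_num) h
          omega
      · exact hM60 ▸ h60
  · by_cases hC : ∃ C : Subgroup M, IsCyclic C ∧ C.index ≤ 2
    · obtain ⟨C, hC, hi⟩ := hC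
      exact Or.inl (small (psl_cyclic_or_dihedral M C hC hi
        fun hd => hpM (hd.trans (Subgroup.card_subgroup_dvd_card C))))
    have key : ∀ r : ℕ, r.Prime → ∀ N : Subgroup M, N.Normal → Nat.card N ≠ r := by
      intro r hr N hN hc
      haveI := hN
      haveI : Fact r.Prime := ⟨hr⟩
      refine hC (psl_cyclic_of_normal M hpM N (isCyclic_of_prime_card hc) fun hb => ?_)
      rw [hb, Subgroup.card_bot] at hc
      exact hr.ne_one hc.symm
    rcases (DicksonFull.coprime_cases M hpM).resolve_left hC with h | h | h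
    · exfalso
      obtain ⟨e⟩ := nonempty_alt_four h (key 3 Nat.prime_three) (key 2 Nat.prime_two)
      have := alt_four_inverted (e zM) (e WM)
        (by rw [← map_mul, show WM * WM = 1 from Subtype.ext hWW, map_one])
        (by rw [← map_inv, ← map_mul, ← map_mul, hWzM, map_inv])
      apply not2
      rw [← hzMo, ← MulEquiv.orderOf_eq e zM]
      exact orderOf_dvd_of_pow_eq_one ((pow_two _).trans this)
    · rcases h24 with h5 | h24
      · exfalso
        obtain ⟨e⟩ := nonempty_perm_four h (key 3 Nat.prime_three) (key 2 Nat.prime_two)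
        rw [← hzMo, ← MulEquiv.orderOf_eq e zM] at h5
        rcases perm_four_orders (e zM) with h' | h' <;>
          have := Nat.le_of_dvd (by norm_num) (orderOf_dvd_of_pow_eq_one h') <;> omega
      · exact absurd (h ▸ Subgroup.card_subgroup_dvd_card M) h24
    · rcases h60 with h6 | h60
      · exfalso
        obtain ⟨e⟩ := nonempty_alt_five h (key 5 (by norm_num)) (key 2 Nat.prime_two)
        rw [← hzMo, ← MulEquiv.orderOf_eq e zM] at h6
        rcases alt_five_orders (e zM) with h' | h' | h' <;>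
          have := Nat.le_of_dvd (by norm_num) (orderOf_dvd_of_pow_eq_one h') <;> omega
      · exact Or.inr (h ▸ h60)

/-- A maximal dihedral subgroup of order `2 (q ± 1) / d`. -/
theorem exists_maximal (p : ℕ) [hp : Fact p.Prime] [CharP F p] {n : ℕ} (hy : ∃ y : PSL2, orderOf y = n)
    (hn : n * dd (Fintype.card F) = Fintype.card F + 1 ∨
      n * dd (Fintype.card F) = Fintype.card F - 1)
    (h9 : Fintype.card F ≠ 9) (h3 : 3 ≤ n) (h24 : 5 ≤ n ∨ ¬ 24 ∣ Nat.card PSL2)
    (h60 : 6 ≤ n ∨ Nat.card PSL2 ≤ 60) (hlt : 2 * n < Nat.card PSL2) :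
    ∃ H : Subgroup PSL2, IsCoatom H ∧ Nonempty (H ≃* DihedralGroup n) := by
  obtain ⟨z, hz⟩ := hy
  haveI : NeZero n := ⟨by omega⟩
  obtain ⟨f, hf, hq⟩ := exists_card_eq_pow (F := F) p
  have hpz : ¬ p ∣ orderOf z := fun h => by
    rw [hz] at h
    have hpd : p ∣ Fintype.card F := hq ▸ dvd_pow_self p hf.ne'
    have h1 := h.mul_right (dd (Fintype.card F))
    rcases hn with e | e <;> rw [e] at h1
    · exact hp.out.not_dvd_one ((Nat.dvd_add_right hpd).mp h1)
    · have := Nat.dvd_sub hpd h1
      rw [Nat.sub_sub_self Fintype.card_pos] at this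
      exact hp.out.not_dvd_one this
  obtain ⟨W, hWW, hWz, hWnot⟩ := exists_inverting (p := p) hpz (hz.symm ▸ h3)
  have hinj := TwoGroups.Recognition.dihedralHom_injective hz hWW hWz hWnot
  set φ := TwoGroups.Recognition.dihedralHom (TwoGroups.Recognition.pow_eq_one_of_orderOf hz) hWW hWz
    with hφ
  have e := MonoidHom.ofInjective hinj
  have hcard : Nat.card φ.range = 2 * n := by
    rw [← Nat.card_congr e.toEquiv, DihedralGroup.nat_card]
  refine ⟨φ.range, DicksonFull.isCoatom_of_card _ (by omega) fun M hM => ?_, ⟨e.symm⟩⟩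
  rw [hcard]
  refine overgroup_cases p M (hM ⟨.r 1, ?_⟩) (hM ⟨.sr 0, ?_⟩) hz hn h9 h3 h24 h60 hWW hWz
    (hcard ▸ Subgroup.card_dvd_of_le hM)
  · simp [hφ, TwoGroups.Recognition.dihedralHom,
      TwoGroups.Recognition.dihedralFun, TwoGroups.Recognition.powZ_one,
      TwoGroups.Recognition.pow_eq_one_of_orderOf hz]
  · simp [hφ, TwoGroups.Recognition.dihedralHom,
      TwoGroups.Recognition.dihedralFun, TwoGroups.Recognition.powZ_zero]

end Cfsg.Agent.Lib.PSLFacts.DihedralMax
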