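import Cfsg.Agent.Lib.DicksonFull.Exist
import Cfsg.Agent.Lib.DicksonFull.Maximal
import Cfsg.Agent.Lib.Linear.SL2

/-!
Traces of elements of small order in `PSL(2, F)`, and `A₄`, `A₅` from given traces in every
characteristic.
-/

set_option autoImplicit false

namespace Cfsg.Agent.Lib.PSLFacts

open Matrix Cfsg.Agent.Lib Cfsg.Agent.Lib.DicksonFull

variable {F : Type*} [Field F]

local notation "SL2" => Matrix.SpecialLinearGroup (Fin 2) F
local notation "M2" => Matrix (Fin 2) (Fin 2) F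
local notation "PSL2" => Matrix.ProjectiveSpecialLinearGroup (Fin 2) F

theorem mk_surjective (y : PSL2) : ∃ x : SL2, (x : PSL2) = y :=
  QuotientGroup.mk_surjective y

theorem mk_eq_one_iff (x : SL2) : (x : PSL2) = 1 ↔ ∃ a : F, (x : M2) = a • 1 :=
  (QuotientGroup.eq_one_iff x).trans (mem_center_iff_smul x)

theorem nonScalar_of_ne_one {x : SL2} (h : (x : PSL2) ≠ 1) : Linear.NonScalar x :=
  fun a ha => h ((mk_eq_one_iff x).mpr ⟨a, ha⟩)

theorem coeff_zero {x : SL2} (hx : Linear.NonScalar x) {a b c : F}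
    (h : b • (x : M2) + a • 1 = c • 1) : b = 0 :=
  (Linear.coeff_unique hx (a := a) (b := b) (a' := c) (b' := 0)
    (by rw [zero_smul, add_zero, ← h, add_comm])).2

theorem pow_two_val (x : SL2) :
    (x : M2) ^ 2 = Matrix.trace (x : M2) • (x : M2) + (-1 : F) • 1 := by
  rw [pow_two, Linear.sl2_mul_self]; module

/-- An element of order two has trace zero. -/
theorem trace_of_pow_two {x : SL2} (h1 : (x : PSL2) ≠ 1) (h : (x : PSL2) ^ 2 = 1) :
    Matrix.trace (x : M2) = 0 := by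
  rw [← QuotientGroup.mk_pow, mk_eq_one_iff] at h
  obtain ⟨c, hc⟩ := h
  rw [Matrix.SpecialLinearGroup.coe_pow, pow_two_val] at hc
  exact coeff_zero (nonScalar_of_ne_one h1) hc

theorem trace_of_pow_three {x : SL2} (h1 : (x : PSL2) ≠ 1) (h : (x : PSL2) ^ 3 = 1) :
    Matrix.trace (x : M2) ^ 2 = 1 := by
  rw [← QuotientGroup.mk_pow, mk_eq_one_iff] at h
  obtain ⟨c, hc⟩ := h
  rw [Matrix.SpecialLinearGroup.coe_pow, pow_three_val, sub_eq_add_neg, ← neg_smul] at hc
  exact sub_eq_zero.mp (coeff_zero (nonScalar_of_ne_one h1) hc)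

theorem pow_four_val (x : SL2) : (x : M2) ^ 4 =
    (Matrix.trace (x : M2) ^ 3 - 2 * Matrix.trace (x : M2)) • (x : M2) +
      (1 - Matrix.trace (x : M2) ^ 2) • 1 := by
  rw [pow_succ, pow_three_val, Matrix.sub_mul, smul_mul_assoc, smul_mul_assoc, one_mul,
    Linear.sl2_mul_self]
  module

theorem trace_of_pow_four {x : SL2} (h2 : (x : PSL2) ^ 2 ≠ 1) (h : (x : PSL2) ^ 4 = 1) :
    Matrix.trace (x : M2) ^ 2 = 2 := by
  have h1 : (x : PSL2) ≠ 1 := fun e => h2 (by rw [e, one_pow])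
  rw [← QuotientGroup.mk_pow, mk_eq_one_iff] at h
  obtain ⟨c, hc⟩ := h
  rw [Matrix.SpecialLinearGroup.coe_pow, pow_four_val] at hc
  have h0 : Matrix.trace (x : M2) * (Matrix.trace (x : M2) ^ 2 - 2) = 0 := by
    linear_combination coeff_zero (nonScalar_of_ne_one h1) hc
  rcases mul_eq_zero.mp h0 with h0 | h0
  · exact absurd (mk_pow_two h0) h2
  · exact sub_eq_zero.mp h0

theorem trace_of_pow_five {x : SL2} (h1 : (x : PSL2) ≠ 1) (h : (x : PSL2) ^ 5 = 1) :
    Matrix.trace (x : M2) ^ 4 - 3 * Matrix.trace (x : M2) ^ 2 + 1 = 0 := by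
  rw [← QuotientGroup.mk_pow, mk_eq_one_iff] at h
  obtain ⟨c, hc⟩ := h
  have h5 : (x : M2) ^ 5 =
      (Matrix.trace (x : M2) ^ 4 - 3 * Matrix.trace (x : M2) ^ 2 + 1) • (x : M2) +
        (-(Matrix.trace (x : M2) ^ 3) + 2 * Matrix.trace (x : M2)) • 1 := by
    rw [pow_succ, pow_four_val, Matrix.add_mul, smul_mul_assoc, smul_mul_assoc, one_mul,
      Linear.sl2_mul_self]
    module
  rw [Matrix.SpecialLinearGroup.coe_pow, h5] at hc
  exact coeff_zero (nonScalar_of_ne_one h1) hc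

/-- `A₄` from a trace triple. -/
theorem alt_four_of_traces {W X : SL2} (hW : Matrix.trace (W : M2) = 0) (hW1 : (W : PSL2) ≠ 1)
    (hX : Matrix.trace (X : M2) ^ 2 = 1) (hWX : Matrix.trace ((W * X : SL2) : M2) ^ 2 = 1) :
    ∃ φ : alternatingGroup (Fin 4) →* PSL2, Function.Injective φ := by
  have hrel : ∀ w ∈ Spectrum.CoxeterAlt.rels 2, FreeGroup.lift ![(X : PSL2), (W : PSL2)] w = 1 := by
    rintro w (((⟨i, hi, rfl⟩ | ⟨i, hi, rfl⟩) | ⟨i, j, hij, rfl⟩) | ⟨i, j, hij, rfl⟩)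
    · obtain rfl : i = 0 := Fin.ext hi
      simpa using mk_pow_three hX
    · obtain rfl : i = 1 := Fin.ext (by simp; omega)
      simpa using mk_pow_two hW
    · obtain ⟨rfl, rfl⟩ : i = 0 ∧ j = 1 := ⟨Fin.ext (by simp; omega), Fin.ext (by simp; omega)⟩
      simp only [map_pow, map_mul, FreeGroup.lift_apply_of]
      show ((X : PSL2) * (W : PSL2)) ^ 3 = 1
      rw [← QuotientGroup.mk_mul]
      exact mk_pow_three (by rw [trace_comm, hWX])
    · omega
  let e := Spectrum.CoxeterAlt.presentedAltEquiv 2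
  refine ⟨(PresentedGroup.toGroup hrel).comp e.symm.toMonoidHom,
    injective_of_key _ (e := e (PresentedGroup.of 1)) ?_ fun σ hσ => ?_⟩
  · simp only [MonoidHom.comp_apply, MulEquiv.coe_toMonoidHom, MulEquiv.symm_apply_apply,
      PresentedGroup.toGroup.of]
    exact hW1
  · obtain ⟨τ, υ, h⟩ := key_a4 σ hσ
    refine ⟨τ, υ, Subtype.ext ?_⟩
    rw [h]
    simp [e, Spectrum.CoxeterAlt.presentedAltEquiv, Spectrum.CoxeterAlt.toPermAlt,
      Spectrum.CoxeterAlt.altGen]
    rfl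

/-- `A₅` from a trace triple. -/
theorem alt_five_of_traces {X Y : SL2} (hX : Matrix.trace (X : M2) ^ 2 = 1)
    (hY : Matrix.trace (Y : M2) ^ 2 = Matrix.trace (Y : M2) + 1)
    (hXY : Matrix.trace ((X * Y : SL2) : M2) = 0) (hW1 : ((X * Y : SL2) : PSL2) ≠ 1) :
    ∃ φ : alternatingGroup (Fin 5) →* PSL2, Function.Injective φ := by
  have hrel : ∀ w ∈ Spectrum.TinyEnum.triRels, FreeGroup.lift ![(X : PSL2), (Y : PSL2)] w = 1 := by
    rintro w (rfl | rfl | rfl)
    · simpa using mk_pow_three hX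
    · simpa using mk_pow_five hY
    · simp only [map_pow, map_mul, FreeGroup.lift_apply_of]
      show ((X : PSL2) * (Y : PSL2)) ^ 2 = 1
      rw [← QuotientGroup.mk_mul]
      exact mk_pow_two hXY
  obtain ⟨e⟩ := Spectrum.TinyEnum.presentation_a5
  let φ := (PresentedGroup.toGroup hrel).comp e.symm.toMonoidHom
  haveI := alternatingGroup.isSimpleGroup_five
  rcases φ.normal_ker.eq_bot_or_eq_top with hk | hk
  · exact ⟨φ, (MonoidHom.ker_eq_bot_iff φ).mp hk⟩
  · exfalso
    apply hW1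
    have h0 : ∀ i, φ (e (PresentedGroup.of i)) = 1 := fun i =>
      MonoidHom.mem_ker.mp (hk ▸ Subgroup.mem_top _)
    have a := h0 0
    have b := h0 1
    simp only [φ, MonoidHom.comp_apply, MulEquiv.coe_toMonoidHom, MulEquiv.symm_apply_apply,
      PresentedGroup.toGroup.of] at a b
    rw [QuotientGroup.mk_mul]
    rw [show (X : PSL2) = 1 from a, show (Y : PSL2) = 1 from b, one_mul]

theorem two_ne_zero_iff [Fintype F] : (2 : F) ≠ 0 ↔ Odd (Fintype.card F) := by
  refine ⟨fun h => ?_, fun h => Linear.two_ne_zero_of_odd_card h⟩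
  rw [Nat.odd_iff]
  by_contra hc
  have h2 : ringChar F = 2 := FiniteField.even_card_iff_char_two.mpr (by omega)
  apply h
  have h0 := ringChar.Nat.cast_ringChar (R := F)
  rw [h2] at h0
  exact_mod_cast h0

/-- The image of an injective map into `PSL(2, F)` is a subgroup isomorphic to the source. -/
theorem exists_subgroup_of_hom {H : Type*} [Group H]
    (h : ∃ φ : H →* PSL2, Function.Injective φ) :
    ∃ K : Subgroup PSL2, Nonempty (K ≃* H) :=
  let ⟨φ, hφ⟩ := h
  ⟨φ.range, ⟨(MonoidHom.ofInjective hφ).symm⟩⟩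

end Cfsg.Agent.Lib.PSLFacts
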